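import Cfsg.Agent.Lib.CG.Glue2

set_option autoImplicit false
set_option maxRecDepth 100000
set_option Elab.async false

namespace Cfsg.Agent.CG.A8

noncomputable def t0 : ℕ := 0x3830282018001008
noncomputable def t1 : ℕ := 0x3830282018080010
noncomputable def t2 : ℕ := 0x838302820181000
noncomputable def t3 : ℕ := 0x3028201810083800
noncomputable def t4 : ℕ := 0x2820181038003008
noncomputable def t5 : ℕ := 0x1808383028200010
noncomputable def t6 : ℕ := 0x1808383028001020
noncomputable def t7 : ℕ := 0x2820180038083010
noncomputable def t8 : ℕ := 0x30182028083810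
noncomputable def t9 : ℕ := 0x830182028001038
noncomputable def t10 : ℕ := 0x2810180838302000
noncomputable def t11 : ℕ := 0x1810380828302000
noncomputable def t12 : ℕ := 0x810303820182800
noncomputable def t13 : ℕ := 0x2028081810303800
noncomputable def t14 : ℕ := 0x2030101828380800
noncomputable def t15 : ℕ := 0x1030183820280800
noncomputable def t16 : ℕ := 0x1028382030180800
noncomputable def t17 : ℕ := 0x2818302010380800
noncomputable def t18 : ℕ := 0x3828203018100800
noncomputable def t19 : ℕ := 0x3820302818100800
noncomputable def t20 : ℕ := 0x3038202818100800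
noncomputable def t21 : ℕ := 0x3828301820100800
noncomputable def t22 : ℕ := 0x1830382028100800
noncomputable def t23 : ℕ := 0x2830182038100800
noncomputable def t24 : ℕ := 0x3018282038100800
noncomputable def t25 : ℕ := 0x1838282030100800
noncomputable def t26 : ℕ := 0x3028382018100800
noncomputable def t27 : ℕ := 0x2838302018100800
noncomputable def t28 : ℕ := 0x3028382018100800
noncomputable def t29 : ℕ := 0x2838302018100800
noncomputable def t30 : ℕ := 0x3038182028100800
noncomputable def t31 : ℕ := 0x3038202818100800
noncomputable def t32 : ℕ := 0x3038281018200800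
noncomputable def t33 : ℕ := 0x3038282018081000
noncomputable def t34 : ℕ := 0x3038282018100008
noncomputable def t35 : ℕ := 0x3830282018100800
noncomputable def tc0t28 : ℕ := 0x1d38c087500c9780406414c3c10b280ca1404100
noncomputable def tc0t29 : ℕ := 0x2068c1066408650040781863c146281061404100
noncomputable def tc0t30 : ℕ := 0x8850192641c8780408c1503c10f280ce1404100
noncomputable def tc0t31 : ℕ := 0x1918c1c56418d780853c04050115280d41404100
noncomputable def tc0t32 : ℕ := 0x1988c1c4641977815650084280403c0d91404100
noncomputable def tc0t33 : ℕ := 0x19d8c1c36419c7815b5011a3c083140402804100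
noncomputable def tc0t34 : ℕ := 0x1a28c1c2641a1781605011f3c0de280820004014
noncomputable def tc0d : ℕ := 0x1e5001d5001c5001f3c02028021140220000000
noncomputable def tc1t28 : ℕ := 0x6860233034501040452034901080
noncomputable def tc1t29 : ℕ := 0x72e042c022b0105052a042901080
noncomputable def tc1t30 : ℕ := 0x23b057c063d0106046a036101080
noncomputable def tc1t31 : ℕ := 0x5760624055d02220103038901080
noncomputable def tc1t32 : ℕ := 0x5a6061c059d04930219010201080
noncomputable def tc1t33 : ℕ := 0x5c6061405bd04b303aa021001010
noncomputable def tc1d : ℕ := 0xf300eb00e300fa0101010800000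
noncomputable def tc2t28 : ℕ := 0x56d022a033c0103034101080
noncomputable def tc2t29 : ℕ := 0x625042302220104042101080
noncomputable def tc2t30 : ℕ := 0x232046305340105035101080
noncomputable def tc2t31 : ℕ := 0x45d051b044c0219010201080
noncomputable def tc2t32 : ℕ := 0x4850513047c0372021001010
noncomputable def tc2d : ℕ := 0xf200ea00e200f9010000000
noncomputable def tc3t28 : ℕ := 0x1d4012101b3008200880
noncomputable def tc3t29 : ℕ := 0x35c021a0119008300880
noncomputable def tc3t30 : ℕ := 0x12901ca02cb008400880
noncomputable def tc3t31 : ℕ := 0x1c4021201bb011000810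
noncomputable def tc3d : ℕ := 0xf100e900e100f800000
noncomputable def tc4t28 : ℕ := 0xa100eb004200480
noncomputable def tc4t29 : ℕ := 0x11a0099004300480
noncomputable def tc4t30 : ℕ := 0x11200f3009000410
noncomputable def tc4d : ℕ := 0xe900e100f000000
noncomputable def tc5t28 : ℕ := 0x4c007200210
noncomputable def tc5t29 : ℕ := 0x89004800220
noncomputable def tc5d : ℕ := 0x74007000000
noncomputable def mc0c : ℕ := 0x2818303820100800
noncomputable def mc0p : ℕ := 0x32100000
noncomputable def mc0l : ℕ := 0x202040906010000
noncomputable def mc0i : ℕ := 0x303050807000100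
noncomputable def mc0q : ℕ := 0x405070306020100
noncomputable def mc1c : ℕ := 0x10301838282008
noncomputable def mc1p : ℕ := 0x4210000
noncomputable def mc1l : ℕ := 0xd0c0d0d0c0a00
noncomputable def mc1i : ℕ := 0xc0d0c0c0d0b00
noncomputable def mc1q : ℕ := 0x305020104060000
noncomputable def mc2c : ℕ := 0x302018283810
noncomputable def mc2p : ℕ := 0x210000
noncomputable def mc2l : ℕ := 0x110e100f0e00
noncomputable def mc2i : ℕ := 0x100f110e0f00
noncomputable def mc2q : ℕ := 0x105020403000000
noncomputable def mc3c : ℕ := 0x3818283020
noncomputable def mc3p : ℕ := 0x10000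
noncomputable def mc3l : ℕ := 0x1415131200
noncomputable def mc3i : ℕ := 0x1415121300
noncomputable def mc3q : ℕ := 0x401020003000000
noncomputable def mc4c : ℕ := 0x30382818
noncomputable def mc4p : ℕ := 0x0
noncomputable def mc4l : ℕ := 0x19171600
noncomputable def mc4i : ℕ := 0x18161700
noncomputable def mc4q : ℕ := 0x203010000000000
noncomputable def mc5c : ℕ := 0x303828
noncomputable def mc5p : ℕ := 0x0
noncomputable def mc5l : ℕ := 0x1b1a00
noncomputable def mc5i : ℕ := 0x1a1b00
noncomputable def mc5q : ℕ := 0x102000000000000

end Cfsg.Agent.CG.A8
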