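import Cfsg.Agent.Lib.Grp.A8.D0

set_option autoImplicit false
set_option maxRecDepth 100000
set_option Elab.async false

namespace Cfsg.Agent.CG.A8

noncomputable def tabs : List ℕ := [t0,t1,t2,t3,t4,t5,t6,t7,t8,t9,t10,t11,t12,t13,t14,t15,t16,t17,t18,t19,t20,t21,t22,t23,t24,t25,t26,t27,t28,t29,t30,t31,t32,t33,t34]
noncomputable abbrev app : ℕ → ℕ → ℕ := appT tabs t35 0xff
noncomputable def slpL : List (Bool × List ℕ) := [(false,[]),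
  (false,[]),
  (false,[]),
  (false,[]),
  (false,[3,0,0,3,0,0,0]),
  (true,[4]),
  (false,[1,3,1,4,2,4,0]),
  (true,[6]),
  (false,[0,2,5,7,7,3,6]),
  (true,[8]),
  (false,[7,3,3,3,5,8,2,4,1,6]),
  (true,[10]),
  (false,[8,1,9,0,2,6,4,7,5]),
  (true,[12]),
  (false,[11,12,1,3,3,9,7,4,2,9,4]),
  (true,[14]),
  (false,[13,13,7,8,3,0,2,5,6,8,1]),
  (true,[16]),
  (false,[14,16,11,12,12,8,2,4,1,1,3,5,0,2]),
  (true,[18]),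
  (false,[17,12,7,5,0,5,1,7,4,6,8]),
  (false,[14,13,8,0,7,2,0,5,7,4,2]),
  (false,[19,15,0,5,6,9,1,7,1,8,1]),
  (true,[22]),
  (false,[15,13,1,1,9,0,2,7,5,7,2]),
  (true,[24]),
  (false,[24,18,14,11,12,12,0,2,2,5,8,2,2,1,1]),
  (true,[26]),
  (false,[26]),
  (true,[28]),
  (false,[22,26]),
  (false,[19,27]),
  (false,[14,14,21,23]),
  (false,[13,13,10,27]),
  (false,[0,13,13,10,27])]
noncomputable def slp (a : ℕ) : Bool × List ℕ := nth slpL (false, []) a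
noncomputable def invL : List ℕ := [1,0,3,2,5,4,7,6,9,8,11,10,13,12,15,14,17,16,19,18,20,21,23,22,25,24,27,26,29,28,30,31,32,33,34]
noncomputable def inv (a : ℕ) : ℕ := nth invL 35 a
noncomputable def bs : List ℕ := [0,8,16,32,24,40]
noncomputable def mc0 : Lvl := ⟨0, [0,1,2,3,4,5,6,7,8,9], 8,
  fun i => look 0xff mc0c (Nat.mul 8 i), fun i => look 0xf mc0p (Nat.mul 4 i),
  fun i => look 255 mc0l (Nat.mul 8 i), fun i => look 255 mc0i (Nat.mul 8 i), fun x => look 0xff mc0q x, 2⟩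
noncomputable def mc1 : Lvl := ⟨8, [10,11,12,13], 7,
  fun i => look 0xff mc1c (Nat.mul 8 i), fun i => look 0xf mc1p (Nat.mul 4 i),
  fun i => look 255 mc1l (Nat.mul 8 i), fun i => look 255 mc1i (Nat.mul 8 i), fun x => look 0xff mc1q x, 3⟩
noncomputable def mc2 : Lvl := ⟨16, [14,15,16,17], 6,
  fun i => look 0xff mc2c (Nat.mul 8 i), fun i => look 0xf mc2p (Nat.mul 4 i),
  fun i => look 255 mc2l (Nat.mul 8 i), fun i => look 255 mc2i (Nat.mul 8 i), fun x => look 0xff mc2q x, 2⟩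
noncomputable def mc3 : Lvl := ⟨32, [18,19,20,21], 5,
  fun i => look 0xff mc3c (Nat.mul 8 i), fun i => look 0xf mc3p (Nat.mul 4 i),
  fun i => look 255 mc3l (Nat.mul 8 i), fun i => look 255 mc3i (Nat.mul 8 i), fun x => look 0xff mc3q x, 2⟩
noncomputable def mc4 : Lvl := ⟨24, [22,23,24,25], 4,
  fun i => look 0xff mc4c (Nat.mul 8 i), fun i => look 0xf mc4p (Nat.mul 4 i),
  fun i => look 255 mc4l (Nat.mul 8 i), fun i => look 255 mc4i (Nat.mul 8 i), fun x => look 0xff mc4q x, 1⟩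
noncomputable def mc5 : Lvl := ⟨40, [26,27], 3,
  fun i => look 0xff mc5c (Nat.mul 8 i), fun i => look 0xf mc5p (Nat.mul 4 i),
  fun i => look 255 mc5l (Nat.mul 8 i), fun i => look 255 mc5i (Nat.mul 8 i), fun x => look 0xff mc5q x, 1⟩
noncomputable def mc : List Lvl := [mc0, mc1, mc2, mc3, mc4, mc5]
noncomputable def tcR : List (List ℕ) := [[28,29],
  [29,28],
  [28,28,28],
  [30,30],
  [30,28,30,28,30,28],
  [31,31],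
  [31,28,31,28,31,28],
  [31,30,31,30,31,30],
  [31,30,28,30,31,29,30,29],
  [32,32],
  [32,28,32,28],
  [32,30,32,30],
  [32,31,32,31,32,31],
  [33,33],
  [33,28,33,28],
  [33,30,33,30],
  [33,31,33,31],
  [33,32,33,32,33,32],
  [34,34],
  [34,28,34,28],
  [34,30,34,30],
  [34,31,34,31],
  [34,32,34,32],
  [34,33,34,33,34,33]]
noncomputable def tc0T : List ℕ := [0,0,0,0,0,0,0,0,0,0,0,0,0,0,0,0,0,0,0,0,0,0,0,0,0,0,0,0,tc0t28,tc0t29,tc0t30,tc0t31,tc0t32,tc0t33,tc0t34]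
noncomputable def tc0r : Tr Rule := (.node (.node (.node (.node (.node (.node (.leaf ⟨34,[34],18,1⟩) (.leaf ⟨34,[30,34,30],20,2⟩)) (.leaf ⟨30,[29,31,30,28,30,31,29],8,6⟩)) (.node (.leaf ⟨28,[34,28,34],19,3⟩) (.leaf ⟨33,[32,33,32,33,32],17,4⟩))) (.node (.node (.leaf ⟨29,[28],0,1⟩) (.leaf ⟨32,[31,32,31,32,31],12,4⟩)) (.node (.leaf ⟨30,[34,30,34],20,3⟩) (.leaf ⟨34,[33,34,33,34,33],23,4⟩)))) (.node (.node (.node (.leaf ⟨32,[32],9,1⟩) (.leaf ⟨31,[34,31,34],21,3⟩)) (.node (.leaf ⟨28,[32,28,32],10,3⟩) (.leaf ⟨33,[28,33,28],14,2⟩))) (.node (.node (.leaf ⟨30,[30],3,1⟩) (.leaf ⟨32,[30,32,30],11,2⟩)) (.node (.leaf ⟨30,[32,30,32],11,3⟩) (.leaf ⟨34,[31,34,31],21,2⟩))))) (.node (.node (.node (.node (.leaf ⟨33,[33],13,1⟩) (.leaf ⟨28,[30,31,29,30,29,31,30],8,2⟩)) (.node (.leaf ⟨28,[33,28,33],14,3⟩) (.leaf ⟨33,[31,33,31],16,2⟩))) (.node (.node (.leaf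 ⟨28,[29],0,0⟩) (.leaf ⟨32,[28,32,28],10,2⟩)) (.node (.leaf ⟨30,[33,30,33],15,3⟩) (.leaf ⟨34,[32,34,32],22,2⟩)))) (.node (.node (.node (.leaf ⟨31,[31],5,1⟩) (.leaf ⟨31,[33,31,33],16,3⟩)) (.node (.leaf ⟨31,[28,31,28,31,28],6,4⟩) (.leaf ⟨33,[30,33,30],15,2⟩))) (.node (.node (.leaf ⟨28,[28,28],2,2⟩) (.leaf ⟨32,[34,32,34],22,3⟩)) (.node (.leaf ⟨31,[30,31,30,31,30],7,4⟩) (.leaf ⟨34,[28,34,28],19,2⟩))))))
noncomputable def tc0 : TCL := ⟨[28,29,30,31,32,33,34], [28,29,30,31,32,33], 8, 20, 0xff, 8, 0x3f,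
  fun a x => look 0xfffff (nth tc0T 0 a) x, fun x => look 0xfffff tc0d x, tc0r⟩
noncomputable def tc1T : List ℕ := [0,0,0,0,0,0,0,0,0,0,0,0,0,0,0,0,0,0,0,0,0,0,0,0,0,0,0,0,tc1t28,tc1t29,tc1t30,tc1t31,tc1t32,tc1t33]
noncomputable def tc1r : Tr Rule := (.node (.node (.node (.node (.node (.leaf ⟨33,[33],13,1⟩) (.leaf ⟨32,[31,32,31,32,31],12,4⟩)) (.leaf ⟨28,[32,28,32],10,3⟩)) (.node (.node (.leaf ⟨28,[29],0,0⟩) (.leaf ⟨33,[31,33,31],16,2⟩)) (.leaf ⟨31,[30,31,30,31,30],7,4⟩))) (.node (.node (.node (.leaf ⟨31,[31],5,1⟩) (.leaf ⟨32,[30,32,30],11,2⟩)) (.leaf ⟨30,[33,30,33],15,3⟩)) (.node (.node (.leaf ⟨28,[28,28],2,2⟩) (.leaf ⟨33,[30,33,30],15,2⟩)) (.leaf ⟨28,[30,31,29,30,29,31,30],8,2⟩)))) (.node (.node (.node (.node (.leaf ⟨32,[32],9,1⟩) (.leaf ⟨32,[28,32,28],10,2⟩)) (.leaf ⟨31,[28,31,28,31,28],6,4⟩)) (.node (.node (.leaf ⟨30,[30],3,1⟩)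 (.leaf ⟨33,[28,33,28],14,2⟩)) (.leaf ⟨30,[29,31,30,28,30,31,29],8,6⟩))) (.node (.node (.node (.leaf ⟨29,[28],0,1⟩) (.leaf ⟨33,[32,33,32,33,32],17,4⟩)) (.leaf ⟨30,[32,30,32],11,3⟩)) (.node (.leaf ⟨28,[33,28,33],14,3⟩) (.leaf ⟨31,[33,31,33],16,3⟩)))))
noncomputable def tc1 : TCL := ⟨[28,29,30,31,32,33], [28,29,30,31,32], 7, 16, 0x7f, 7, 0x1f,
  fun a x => look 0xffff (nth tc1T 0 a) x, fun x => look 0xffff tc1d x, tc1r⟩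
noncomputable def tc2T : List ℕ := [0,0,0,0,0,0,0,0,0,0,0,0,0,0,0,0,0,0,0,0,0,0,0,0,0,0,0,0,tc2t28,tc2t29,tc2t30,tc2t31,tc2t32]
noncomputable def tc2r : Tr Rule := (.node (.node (.node (.node (.leaf ⟨32,[32],9,1⟩) (.leaf ⟨30,[32,30,32],11,3⟩)) (.node (.leaf ⟨30,[30],3,1⟩) (.leaf ⟨32,[31,32,31,32,31],12,4⟩))) (.node (.node (.leaf ⟨29,[28],0,1⟩) (.leaf ⟨30,[29,31,30,28,30,31,29],8,6⟩)) (.node (.leaf ⟨28,[32,28,32],10,3⟩) (.leaf ⟨32,[30,32,30],11,2⟩)))) (.node (.node (.node (.leaf ⟨31,[31],5,1⟩) (.leaf ⟨31,[30,31,30,31,30],7,4⟩)) (.node (.leaf ⟨28,[28,28],2,2⟩) (.leaf ⟨32,[28,32,28],10,2⟩))) (.node (.node (.leaf ⟨28,[29],0,0⟩) (.leaf ⟨28,[30,31,29,30,29,31,30],8,2⟩)) (.leaf ⟨31,[28,31,28,31,28],6,4⟩))))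
noncomputable def tc2 : TCL := ⟨[28,29,30,31,32], [28,29,30,31], 6, 16, 0x7f, 7, 0x1f,
  fun a x => look 0xffff (nth tc2T 0 a) x, fun x => look 0xffff tc2d x, tc2r⟩
noncomputable def tc3T : List ℕ := [0,0,0,0,0,0,0,0,0,0,0,0,0,0,0,0,0,0,0,0,0,0,0,0,0,0,0,0,tc3t28,tc3t29,tc3t30,tc3t31]
noncomputable def tc3r : Tr Rule := (.node (.node (.node (.node (.leaf ⟨31,[31],5,1⟩) (.leaf ⟨28,[30,31,29,30,29,31,30],8,2⟩)) (.leaf ⟨28,[28,28],2,2⟩)) (.node (.leaf ⟨28,[29],0,0⟩) (.leaf ⟨31,[30,31,30,31,30],7,4⟩))) (.node (.node (.node (.leaf ⟨29,[28],0,1⟩) (.leaf ⟨29,[30,29,31,30,28,30,31],8,5⟩)) (.leaf ⟨31,[28,31,28,31,28],6,4⟩)) (.node (.leaf ⟨30,[30],3,1⟩) (.leaf ⟨30,[29,31,30,28,30,31,29],8,6⟩))))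
noncomputable def tc3 : TCL := ⟨[28,29,30,31], [28,29,30], 5, 16, 0x7f, 7, 0xf,
  fun a x => look 0xffff (nth tc3T 0 a) x, fun x => look 0xffff tc3d x, tc3r⟩
noncomputable def tc4T : List ℕ := [0,0,0,0,0,0,0,0,0,0,0,0,0,0,0,0,0,0,0,0,0,0,0,0,0,0,0,0,tc4t28,tc4t29,tc4t30]
noncomputable def tc4r : Tr Rule := (.node (.node (.node (.leaf ⟨30,[30],3,1⟩) (.leaf ⟨30,[28,30,28,30,28],4,4⟩)) (.leaf ⟨28,[29],0,0⟩)) (.node (.leaf ⟨29,[28],0,1⟩) (.leaf ⟨28,[28,28],2,2⟩)))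
noncomputable def tc4 : TCL := ⟨[28,29,30], [28,29], 4, 16, 0x7f, 7, 0x7,
  fun a x => look 0xffff (nth tc4T 0 a) x, fun x => look 0xffff tc4d x, tc4r⟩
noncomputable def tc5T : List ℕ := [0,0,0,0,0,0,0,0,0,0,0,0,0,0,0,0,0,0,0,0,0,0,0,0,0,0,0,0,tc5t28,tc5t29]
noncomputable def tc5r : Tr Rule := (.node (.node (.leaf ⟨29,[28],0,1⟩) (.leaf ⟨28,[28,28],2,2⟩)) (.leaf ⟨28,[29],0,0⟩))
noncomputable def tc5 : TCL := ⟨[28,29], [], 3, 16, 0x3f, 6, 0x7,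
  fun a x => look 0xffff (nth tc5T 0 a) x, fun x => look 0xffff tc5d x, tc5r⟩
noncomputable def tc : List TCL := [tc0, tc1, tc2, tc3, tc4, tc5]
noncomputable def inW : List (List ℕ) := [[34,33],
  [33,34],
  [33,30,31,32,30,31,29],
  [28,31,32,33,30,31,30]]
noncomputable def tcS : List ℕ := [28,29,30,31,32,33,34]

end Cfsg.Agent.CG.A8
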